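import Groth.Agent.Lib.Flatness.InjMod
import Mathlib.AlgebraicGeometry.Fiber
import Mathlib.AlgebraicGeometry.Morphisms.Flat
import Mathlib.RingTheory.Ideal.KrullsHeightTheorem
import Mathlib.RingTheory.Ideal.GoingDown
import Mathlib.RingTheory.Regular.RegularSequence
import Mathlib.AlgebraicGeometry.Noetherian

/-!
# Local dimension along a morphism, regular sequences on fibres of flat modules

* `dim_stalk_le_of_flat`, `exists_specializes_dim_le`: `dim O_{h x} ≤ dim O_x` for `h` flat at `x`,
  and some generisation of `x` in its fibre has local dimension at most `dim O_{h x}`.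
* `isWeaklyRegular_of_fibre`: a sequence regular on `M/𝔪M` is regular on a flat `M`.
-/

universe u

open CategoryTheory AlgebraicGeometry IsLocalRing Order Pointwise

namespace GrothLib.DimCut

theorem ringKrullDim_le_of_flat_local {A B : Type u} [CommRing A] [CommRing B] [IsLocalRing A]
    [IsLocalRing B] [IsNoetherianRing A] [IsNoetherianRing B] [Algebra A B]
    [IsLocalHom (algebraMap A B)]
    [Module.Flat A B] : ringKrullDim A ≤ ringKrullDim B := by
  haveI : (maximalIdeal B).LiesOver (maximalIdeal A) :=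
    ⟨(((local_hom_TFAE (algebraMap A B)).out 0 4 (a := IsLocalHom (algebraMap A B))
      (b := (maximalIdeal B).comap (algebraMap A B) = maximalIdeal A)).mp inferInstance).symm⟩
  rw [← maximalIdeal_height_eq_ringKrullDim, ← maximalIdeal_height_eq_ringKrullDim,
    Ideal.height_eq_height_add_of_liesOver_of_hasGoingDown (maximalIdeal A) (maximalIdeal B)]
  exact WithBot.coe_le_coe.mpr le_self_add

theorem ringKrullDim_le_of_mem_minimalPrimes {A B : Type u} [CommRing A] [CommRing B]
    [IsLocalRing A] [IsLocalRing B] [IsNoetherianRing A] [IsNoetherianRing B] [Algebra A B]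
    [IsLocalHom (algebraMap A B)]
    (h : maximalIdeal B ∈ ((maximalIdeal A).map (algebraMap A B)).minimalPrimes) :
    ringKrullDim B ≤ ringKrullDim A := by
  haveI : (maximalIdeal B).LiesOver (maximalIdeal A) :=
    ⟨(((local_hom_TFAE (algebraMap A B)).out 0 4 (a := IsLocalHom (algebraMap A B))
      (b := (maximalIdeal B).comap (algebraMap A B) = maximalIdeal A)).mp inferInstance).symm⟩
  rw [← maximalIdeal_height_eq_ringKrullDim, ← maximalIdeal_height_eq_ringKrullDim]
  refine WithBot.coe_le_coe.mpr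
    ((Ideal.height_le_height_add_of_liesOver (maximalIdeal A) (maximalIdeal B)).trans ?_)
  haveI := Ideal.isPrime_map_quotientMk_of_isPrime (p := maximalIdeal B) h.1.2
  rw [show ((maximalIdeal B).map (Ideal.Quotient.mk _)).height = 0 from ?_, add_zero]
  rw [Ideal.height_eq_zero_iff]
  refine ⟨⟨inferInstance, bot_le⟩, fun q hq hle => ?_⟩
  haveI := hq.1
  have h1 : q.comap (Ideal.Quotient.mk _) ≤ maximalIdeal B :=
    IsLocalRing.le_maximalIdeal (Ideal.IsPrime.comap _).ne_top
  have h2 : (maximalIdeal A).map (algebraMap A B) ≤ q.comap (Ideal.Quotient.mk _) :=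
    fun b hb => by
      rw [Ideal.mem_comap, Ideal.Quotient.eq_zero_iff_mem.mpr hb]
      exact q.zero_mem
  exact Ideal.map_le_iff_le_comap.mpr (h.2 ⟨Ideal.IsPrime.comap _, h2⟩ h1)

variable {X Y : Scheme.{u}}

theorem dim_stalk_le_of_flat (h : X ⟶ Y) [Flat h] (x : X) [IsNoetherianRing (X.presheaf.stalk x)]
    [IsNoetherianRing (Y.presheaf.stalk (h x))] :
    ringKrullDim (Y.presheaf.stalk (h x)) ≤ ringKrullDim (X.presheaf.stalk x) :=
  letI := (h.stalkMap x).hom.toAlgebra
  haveI : IsLocalHom (algebraMap (Y.presheaf.stalk (h x)) (X.presheaf.stalk x)) :=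
    inferInstanceAs (IsLocalHom (h.stalkMap x).hom)
  haveI : Module.Flat (Y.presheaf.stalk (h x)) (X.presheaf.stalk x) := Flat.stalkMap h x
  ringKrullDim_le_of_flat_local

theorem apply_fromSpecStalk (h : X ⟶ Y) (x : X) (Q : PrimeSpectrum (X.presheaf.stalk x)) :
    h (X.fromSpecStalk x Q) =
      Y.fromSpecStalk (h x) (PrimeSpectrum.comap (h.stalkMap x).hom Q) := by
  rw [← Scheme.Hom.comp_apply, ← Scheme.SpecMap_stalkMap_fromSpecStalk]
  rfl

/-- A generisation of `x` in its fibre which is minimal among these. -/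
theorem exists_specializes_minimal (h : X ⟶ Y) (x : X) :
    ∃ z, z ⤳ x ∧ h z = h x ∧ ∀ w, w ⤳ z → h w = h x → w = z := by
  obtain ⟨P, hP, -⟩ := Ideal.exists_minimalPrimes_le
    (J := maximalIdeal (X.presheaf.stalk x))
    (I := (maximalIdeal (Y.presheaf.stalk (h x))).map (h.stalkMap x).hom)
    (Ideal.map_le_iff_le_comap.mpr fun _ hx => map_nonunit (h.stalkMap x).hom _ hx)
  haveI := hP.1.1
  let P' : PrimeSpectrum (X.presheaf.stalk x) := ⟨P, inferInstance⟩
  have key : ∀ Q : PrimeSpectrum (X.presheaf.stalk x), h (X.fromSpecStalk x Q) = h x ↔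
      (maximalIdeal (Y.presheaf.stalk (h x))).map (h.stalkMap x).hom ≤ Q.asIdeal := by
    intro Q
    rw [apply_fromSpecStalk, Ideal.map_le_iff_le_comap]
    constructor
    · intro hQ
      have := (Y.fromSpecStalk (h x)).isEmbedding.injective
        (hQ.trans (Scheme.fromSpecStalk_closedPoint (X := Y) (x := h x)).symm)
      exact (congrArg PrimeSpectrum.asIdeal this).ge
    · intro hQ
      rw [show PrimeSpectrum.comap (h.stalkMap x).hom Q = closedPoint _ from PrimeSpectrum.ext
        (le_antisymm (le_maximalIdeal (Ideal.IsPrime.comap _).ne_top) hQ),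
        Scheme.fromSpecStalk_closedPoint]
  refine ⟨X.fromSpecStalk x P', Scheme.range_fromSpecStalk.le ⟨P', rfl⟩, (key P').mpr hP.1.2,
    fun w hw hwx => ?_⟩
  obtain ⟨Q, rfl⟩ : w ∈ Set.range (X.fromSpecStalk x) :=
    Scheme.range_fromSpecStalk.ge (hw.trans (Scheme.range_fromSpecStalk.le ⟨P', rfl⟩))
  have hQP : (Q : PrimeSpectrum (X.presheaf.stalk x)).asIdeal ≤ P :=
    (PrimeSpectrum.asIdeal_le_asIdeal _ _).mpr <| (PrimeSpectrum.le_iff_specializes _ P').mpr
    ((X.fromSpecStalk x).isEmbedding.isInducing.specializes_iff.mp hw)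
  exact congrArg _ (PrimeSpectrum.ext (le_antisymm hQP (hP.2 ⟨Q.2, (key Q).mp hwx⟩ hQP)))

/-- Some generisation of `x` in its fibre has local dimension at most that of the image. -/
theorem exists_specializes_dim_le (h : X ⟶ Y) (x : X)
    (hX : ∀ z, IsNoetherianRing (X.presheaf.stalk z))
    (hY : ∀ z, IsNoetherianRing (Y.presheaf.stalk z)) :
    ∃ z, z ⤳ x ∧ h z = h x ∧
      ringKrullDim (X.presheaf.stalk z) ≤ ringKrullDim (Y.presheaf.stalk (h x)) := by
  obtain ⟨z, hzx, hz, hmin⟩ := exists_specializes_minimal h x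
  refine ⟨z, hzx, hz, ?_⟩
  rw [← hz] at hmin ⊢
  letI := (h.stalkMap z).hom.toAlgebra
  haveI : IsLocalHom (algebraMap (Y.presheaf.stalk (h z)) (X.presheaf.stalk z)) :=
    inferInstanceAs (IsLocalHom (h.stalkMap z).hom)
  haveI := hX z
  haveI := hY (h z)
  refine ringKrullDim_le_of_mem_minimalPrimes ⟨⟨inferInstance,
    Ideal.map_le_iff_le_comap.mpr fun _ hx => map_nonunit (h.stalkMap z).hom _ hx⟩,
    fun q hq _ => ?_⟩
  haveI := hq.1
  let Q : PrimeSpectrum (X.presheaf.stalk z) := ⟨q, inferInstance⟩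
  have h1 : X.fromSpecStalk z Q = z := by
    refine hmin _ (Scheme.range_fromSpecStalk.le ⟨Q, rfl⟩) ?_
    rw [apply_fromSpecStalk, show PrimeSpectrum.comap (h.stalkMap z).hom Q = closedPoint _ from
      PrimeSpectrum.ext (le_antisymm (le_maximalIdeal (Ideal.IsPrime.comap _).ne_top)
        (Ideal.map_le_iff_le_comap.mp hq.2)), Scheme.fromSpecStalk_closedPoint]
  have h2 : Q = closedPoint _ := (X.fromSpecStalk z).isEmbedding.injective
    (h1.trans (Scheme.fromSpecStalk_closedPoint (X := X) (x := z)).symm)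
  exact (congrArg PrimeSpectrum.asIdeal h2).ge

theorem isNoetherianRing_stalk_fiber (f : X ⟶ Y) [IsLocallyNoetherian X] (s : Y) (z : f.fiber s) :
    IsNoetherianRing ((f.fiber s).presheaf.stalk z) :=
  isNoetherianRing_of_surjective _ _ _ ((f.fiberι s).stalkMap_surjective z)

theorem apply_fiberι (f : X ⟶ Y) (s : Y) (z : f.fiber s) : f (f.fiberι s z) = s :=
  (f.range_fiberι s).le ⟨z, rfl⟩

theorem eq_asFiber (f : X ⟶ Y) (x : X) (z : f.fiber (f x)) (hz : f.fiberι (f x) z = x) :
    z = f.asFiber x :=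
  (f.fiberι (f x)).isEmbedding.injective (hz.trans (f.fiberι_asFiber x).symm)

/-! ### Regular sequences -/

open TensorProduct RingTheory.Sequence in
theorem isSMulRegular_flat_of_fibre {A B M : Type u} [CommRing A] [IsLocalRing A] [CommRing B]
    [IsLocalRing B] [IsNoetherianRing B] [Algebra A B] [IsLocalHom (algebraMap A B)]
    [AddCommGroup M] [Module A M] [Module B M] [IsScalarTower A B M] [Module.Finite B M]
    [Module.Flat A M] (x : B)
    (hx : IsSMulRegular (M ⧸ ((maximalIdeal A).map (algebraMap A B) • ⊤ : Submodule B M)) x) :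
    IsSMulRegular M x ∧ Module.Flat A (QuotSMulTop x M) := by
  let u : M →ₗ[A] M := (LinearMap.lsmul B M x).restrictScalars A
  have hmem : ∀ m : M, m ∈ ((maximalIdeal A).map (algebraMap A B) • ⊤ : Submodule B M) ↔
      m ∈ maximalIdeal A • (⊤ : Submodule A M) := fun m =>
    iff_of_eq (congrArg (fun P : Submodule A M => m ∈ P)
      ((Ideal.smul_restrictScalars (maximalIdeal A) (⊤ : Submodule B M)).trans rfl))
  have hu : Function.Injective (u.lTensor (ResidueField A)) := by
    rw [injective_iff_map_eq_zero]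
    intro t ht
    obtain ⟨m, rfl⟩ : ∃ m : M, (1 : ResidueField A) ⊗ₜ[A] m = t :=
      TensorProduct.mk_surjective A M (ResidueField A) IsLocalRing.residue_surjective t
    rw [LinearMap.lTensor_tmul] at ht
    have h1 := (Submodule.Quotient.mk_eq_zero _).mpr
      ((hmem _).mpr ((GrothLib.Flatness.one_tmul_eq_zero_iff _ _).mp ht))
    have h2 := hx.right_eq_zero_of_smul (x := Submodule.Quotient.mk m)
      (by rw [← Submodule.Quotient.mk_smul]; exact h1)
    exact (GrothLib.Flatness.one_tmul_eq_zero_iff _ _).mpr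
      ((hmem m).mp ((Submodule.Quotient.mk_eq_zero _).mp h2))
  obtain ⟨hinj, hflat, -⟩ := GrothLib.Flatness.flat_coker_of_forall_mem u
    (fun J m => GrothLib.Flatness.mem_smul_top_of_map_mem (S := B) u hu J m)
  refine ⟨hinj, ?_⟩
  refine Module.Flat.of_linearEquiv (M := M ⧸ LinearMap.range u)
    ((Submodule.Quotient.restrictScalarsEquiv A (x • ⊤ : Submodule B M)).symm ≪≫ₗ
      Submodule.quotEquivOfEq _ _ ?_)
  ext m
  simp [u, Submodule.mem_smul_pointwise_iff_exists]

open RingTheory.Sequence in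
/-- A sequence weakly regular on `M/𝔪M` is weakly regular on the flat module `M`. -/
theorem isWeaklyRegular_of_fibre {A B : Type u} [CommRing A] [IsLocalRing A] [CommRing B]
    [IsLocalRing B] [IsNoetherianRing B] [Algebra A B] [IsLocalHom (algebraMap A B)]
    (rs : List B) : ∀ (M : Type u) [AddCommGroup M] [Module A M] [Module B M]
      [IsScalarTower A B M] [Module.Finite B M] [Module.Flat A M],
      IsWeaklyRegular (M ⧸ ((maximalIdeal A).map (algebraMap A B) • ⊤ : Submodule B M)) rs →
        IsWeaklyRegular M rs := by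
  induction rs with
  | nil => intros; exact IsWeaklyRegular.nil B _
  | cons x rs ih =>
    intro M _ _ _ _ _ _ h
    obtain ⟨h1, h2⟩ := (isWeaklyRegular_cons_iff _ x rs).mp h
    obtain ⟨h3, h4⟩ := isSMulRegular_flat_of_fibre (A := A) x h1
    refine IsWeaklyRegular.cons h3 (ih (QuotSMulTop x M) ?_)
    set K := (maximalIdeal A).map (algebraMap A B)
    have hK : (K • ⊤ : Submodule B (QuotSMulTop x M)) =
        (K • ⊤ : Submodule B M).map (x • ⊤ : Submodule B M).mkQ := by
      rw [Submodule.map_smul'', Submodule.map_top, Submodule.range_mkQ]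
    have hX : (x • ⊤ : Submodule B (M ⧸ (K • ⊤ : Submodule B M))) =
        (x • ⊤ : Submodule B M).map (K • ⊤ : Submodule B M).mkQ := by
      rw [Submodule.map_pointwise_smul, Submodule.map_top, Submodule.range_mkQ]
    let e : (QuotSMulTop x (M ⧸ (K • ⊤ : Submodule B M))) ≃ₗ[B]
        (QuotSMulTop x M ⧸ (K • ⊤ : Submodule B (QuotSMulTop x M))) :=
      Submodule.quotEquivOfEq _ _ hX ≪≫ₗ Submodule.quotientQuotientEquivQuotientSup _ _ ≪≫ₗ
        Submodule.quotEquivOfEq _ _ (sup_comm _ _) ≪≫ₗ
        (Submodule.quotientQuotientEquivQuotientSup _ _).symm ≪≫ₗ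
        (Submodule.quotEquivOfEq _ _ hK).symm
    exact (e.isWeaklyRegular_congr rs).mp h2

end GrothLib.DimCut
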