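import Groth.Agent.Lib.DimCut.Basic
import Groth.Agent.Lib.CycFlat.Fibre
import Groth.Agent.Lib.SmoothSection.Scheme
import Mathlib.AlgebraicGeometry.Morphisms.Smooth
import Mathlib.AlgebraicGeometry.IdealSheaf.Subscheme

/-!
# The diagonal of a smooth variety is regular; dimension of intersections
-/

universe u

open AlgebraicGeometry CategoryTheory CategoryTheory.Limits TopologicalSpace

noncomputable section

namespace GrothLib.DimCut

open GrothLib.AffDom

variable {K : Type u} [Field K]

/-- Standard smooth domains of relative dimension `m` over a field have dimension `m`. -/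
theorem ringKrullDim_of_isStandardSmooth (m : ℕ) {B : Type u} [CommRing B] [IsDomain B] [Algebra K B]
    [Algebra.IsStandardSmoothOfRelativeDimension m K B] : ringKrullDim B = m := by
  obtain ⟨φ, hφ⟩ := Algebra.IsStandardSmoothOfRelativeDimension.exists_etale_mvPolynomial m K B
  haveI : Algebra.IsStandardSmooth K B := Algebra.IsStandardSmoothOfRelativeDimension.isStandardSmooth m
  haveI : Algebra.FiniteType K B := inferInstance
  algebraize [φ.toRingHom]
  have hinj : Function.Injective φ := by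
    refine (injective_iff_map_eq_zero φ).2 fun g hg => ?_
    by_contra hne
    haveI : Module.IsTorsionFree (MvPolynomial (Fin m) K) B := inferInstance
    have h1 : g • (1 : B) = 0 := by
      show φ g * 1 = 0
      rw [hg, zero_mul]
    rcases smul_eq_zero.1 h1 with h | h
    · exact hne h
    · exact one_ne_zero h
  refine le_antisymm ?_ ?_
  · have hQF : Algebra.QuasiFinite (MvPolynomial (Fin m) K) B := inferInstance
    refine le_trans (Order.krullDim_le_of_strictMono (PrimeSpectrum.comap φ.toRingHom) fun P Q hPQ => ?_) ?_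
    · refine lt_of_le_of_ne (Ideal.comap_mono hPQ.le) fun h => hPQ.ne ?_
      exact PrimeSpectrum.ext (Algebra.QuasiFinite.eq_of_le_of_under_eq
        (R := MvPolynomial (Fin m) K) P.asIdeal Q.asIdeal hPQ.le (congrArg PrimeSpectrum.asIdeal h))
    · show ringKrullDim (MvPolynomial (Fin m) K) ≤ m
      rw [MvPolynomial.ringKrullDim_of_isNoetherianRing, ringKrullDim_eq_zero_of_field, zero_add, Nat.card_fin]
  · obtain ⟨d, htr, hd⟩ := GrothLib.Dim.exists_nat_trdeg_eq_and_ringKrullDim_eq K B
    rw [hd]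
    have h1 := trdeg_le_of_injective φ hinj
    rw [htr, MvPolynomial.trdeg_of_isDomain, Cardinal.mk_fin, Cardinal.lift_natCast] at h1
    exact_mod_cast h1

/-- A nonempty open of an irreducible scheme of finite type over a field has the full dimension. -/
theorem dim_opens_eq {X : Scheme.{u}} [IrreducibleSpace X] (f : X ⟶ Spec (CommRingCat.of K)) [LocallyOfFiniteType f]
    (U : X.Opens) (hU : Nonempty U) : topologicalKrullDim U = topologicalKrullDim X := by
  refine le_antisymm U.ι.isEmbedding.isInducing.topologicalKrullDim_le ?_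
  obtain ⟨η, hη, hd⟩ := dim_eq_ptDim (Y := X) isClosed_univ (IrreducibleSpace.isIrreducible_univ _)
  obtain ⟨z⟩ := hU
  have hηU : η ∈ U := (hη.specializes trivial).mem_open U.2 z.2
  rw [← (Homeomorph.Set.univ X).isHomeomorph.topologicalKrullDim_eq, hd,
    show ptDim η = ptDim (U.ι ⟨η, hηU⟩) from rfl, ← ptDim_immersion f U.ι ⟨η, hηU⟩]
  exact ptDim_le _

/-- A smooth variety of dimension `n` is smooth of relative dimension `n`. -/
theorem smoothOfRelativeDimension {X : Scheme.{u}} (f : X ⟶ Spec (CommRingCat.of K)) [Smooth f]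
    [IsIntegral X] (n : ℕ) (hn : topologicalKrullDim X = n) : SmoothOfRelativeDimension n f := by
  refine ⟨fun z => ?_⟩
  obtain ⟨W, hW, V₀, hV₀, hzV₀, e, hstd⟩ := Smooth.exists_isStandardSmooth f z
  have hW' : W = ⊤ := by
    ext a
    simp only [SetLike.mem_coe, Opens.coe_top, Set.mem_univ, iff_true]
    rw [Subsingleton.elim a (f z)]
    exact e hzV₀
  subst hW'
  refine ⟨⊤, hW, V₀, hV₀, hzV₀, e, ?_⟩
  haveI : Nonempty V₀ := ⟨⟨z, hzV₀⟩⟩
  algebraize [(f.appLE ⊤ V₀ e).hom]
  obtain ⟨ι, σ, hσ, hι, ⟨P⟩⟩ := (inferInstance : Algebra.IsStandardSmooth Γ(Spec (CommRingCat.of K), ⊤) Γ(X, V₀)).out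
  have hm : Algebra.IsStandardSmoothOfRelativeDimension P.dimension Γ(Spec (CommRingCat.of K), ⊤) Γ(X, V₀) :=
    P.isStandardSmoothOfRelativeDimension rfl
  have hmn : P.dimension = n := by
    have h1 : topologicalKrullDim V₀ = n := by rw [dim_opens_eq f V₀ inferInstance, hn]
    rw [hV₀.isoSpec.hom.homeomorph.isHomeomorph.topologicalKrullDim_eq] at h1
    let ψ : CommRingCat.of K ⟶ Γ(X, V₀) := (Scheme.ΓSpecIso (CommRingCat.of K)).inv ≫ f.appLE ⊤ V₀ e
    have hψ : ψ.hom.IsStandardSmoothOfRelativeDimension P.dimension :=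
      RingHom.isStandardSmoothOfRelativeDimension_respectsIso.2 (f.appLE ⊤ V₀ e).hom
        (Scheme.ΓSpecIso (CommRingCat.of K)).symm.commRingCatIsoToRingEquiv hm
    algebraize [ψ.hom]
    have h2 := ringKrullDim_of_isStandardSmooth (K := K) P.dimension (B := Γ(X, V₀))
    have h3 : topologicalKrullDim (PrimeSpectrum Γ(X, V₀)) = (n : WithBot ℕ∞) := h1
    rw [PrimeSpectrum.topologicalKrullDim_eq_ringKrullDim, h2] at h3
    exact_mod_cast h3
  rw [← hmn]
  exact hm

/-- The diagonal of a smooth variety of dimension `n` is regular of codimension `n`. -/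
theorem diagonal_regular {X : Scheme.{u}} (f : X ⟶ Spec (CommRingCat.of K)) [Smooth f] [IsSeparated f]
    [IsIntegral X] (n : ℕ) (hn : topologicalKrullDim X = n) :
    RegImm.IsRegularImmersionOfCodim RegImm.Kind.regular n (pullback.diagonal f) := by
  refine ⟨inferInstance, fun z => ?_⟩
  haveI : SmoothOfRelativeDimension n (pullback.fst f f) :=
    (smoothOfRelativeDimension_isStableUnderBaseChange n).of_isPullback
      (IsPullback.of_hasPullback f f).flip (smoothOfRelativeDimension f n hn)
  obtain ⟨U₀, hU₀, V₁, hV₁, hzV₁, e₁, hsm⟩ :=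
    SmoothOfRelativeDimension.exists_isStandardSmoothOfRelativeDimension (n := n) (f := pullback.fst f f)
      (pullback.diagonal f z)
  obtain ⟨_, ⟨V₀, hV₀, rfl⟩, hzV₀, -⟩ := X.isBasis_affineOpens.exists_subset_of_mem_open (Set.mem_univ z) isOpen_univ
  obtain ⟨V, hxV, rs, hlen, hreg, hker⟩ :=
    GrothLib.SmoothSection.exists_chart_regular n (pullback.fst f f) (pullback.diagonal f) (𝟙 X)
      (pullback.diagonal_fst f) z hU₀ hV₁ hzV₁ e₁ hsm ⟨V₀, hV₀⟩ hzV₀ [] (by simp) (by
        rw [Scheme.Hom.ker_apply, Ideal.ofList_nil, ← RingHom.injective_iff_ker_eq_bot]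
        simp only [Scheme.Hom.id_app]
        exact Function.injective_id)
  refine ⟨V, hxV, inferInstance, rs, by simpa using hlen, hreg, ?_⟩
  rw [← hker, Scheme.Hom.ker_apply]

/-- The underlying topological space of the intersection is embedded in the product. -/
theorem exists_specializes_ptDim_ge {V W P : Scheme.{u}} (a : V ⟶ Spec (CommRingCat.of K))
    (b : W ⟶ Spec (CommRingCat.of K)) [LocallyOfFiniteType a] [LocallyOfFiniteType b] [IrreducibleSpace W] [IrreducibleSpace V]
    {g' : P ⟶ W} {f' : P ⟶ V} (hc : IsPullback g' f' b a) (r s : ℕ)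
    (hr : topologicalKrullDim V = r) (hs : topologicalKrullDim W = s) (p : P) :
    ∃ η : P, η ⤳ p ∧ ((r + s : ℕ) : WithBot ℕ∞) ≤ ptDim η := by
  haveI : LocallyOfFiniteType f' := MorphismProperty.of_isPullback hc inferInstance
  haveI : Flat b := inferInstance
  haveI : Flat f' := MorphismProperty.of_isPullback hc inferInstance
  obtain ⟨ηV, hηV, hdV⟩ := dim_eq_ptDim (Y := V) isClosed_univ (IrreducibleSpace.isIrreducible_univ _)
  obtain ⟨ηW, hηW, hdW⟩ := dim_eq_ptDim (Y := W) isClosed_univ (IrreducibleSpace.isIrreducible_univ _)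
  rw [(Homeomorph.Set.univ V).isHomeomorph.topologicalKrullDim_eq, hr] at hdV
  rw [(Homeomorph.Set.univ W).isHomeomorph.topologicalKrullDim_eq, hs] at hdW
  obtain ⟨ξ, hξp, hξ⟩ := (Flat.generalizingMap f') (hηV.specializes (Set.mem_univ (f' p)))
  obtain ⟨x₀, hmax, hx₀, hx₀ξ⟩ := GrothLib.CycFlat.exists_maxFib_specializes f' ξ
  have hrelb : Cyc.HasRelDim b s := by
    refine (GrothLib.CycFlat.hasRelDim_iff b s).2 fun x hx => ?_
    have hxη : x = ηW := (hx ηW (Subsingleton.elim _ _) (hηW.specializes (Set.mem_univ x))).symm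
    subst hxη
    obtain ⟨d, hd, hd'⟩ := GrothLib.Altitude.exists_trdeg_eq_dim_closure b x
    rw [ptDim_of_isEmbedding (b.fiberι (b x)).isEmbedding _ (fun w _ => by
      rw [Scheme.Hom.range_fiberι]; exact Subsingleton.elim (α := ↥(Spec (CommRingCat.of K))) _ _),
      Scheme.Hom.fiberι_asFiber, ← hdW] at hd'
    have : d = s := by exact_mod_cast hd'.symm
    exact this ▸ hd
  have hrel := GrothLib.CycFlat.hasRelDim_of_isPullback hc hrelb
  refine ⟨x₀, hx₀ξ.trans hξp, ?_⟩
  obtain ⟨d, hd, hd'⟩ := GrothLib.Altitude.exists_trdeg_eq_dim_closure f' x₀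
  have hds : d = s := Nat.cast_injective (R := Cardinal)
    (hd.symm.trans ((GrothLib.CycFlat.hasRelDim_iff f' s).1 hrel x₀ hmax))
  rw [ptDim_eq_add f' a x₀, show ptDim (f'.asFiber x₀) = (s : WithBot ℕ∞) from hds ▸ hd', Nat.cast_add]
  have : f' x₀ = ηV := by rw [hx₀]; exact hξ
  rw [show ptDim (f' x₀) = ptDim ηV from congrArg ptDim this, ← hdV]

end GrothLib.DimCut
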