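import Groth.Prelude.Def_CInt
import Groth.Prelude.Def_CAlg
import Groth.Agent.Lib.DimCut.StalkFibre
import Groth.Agent.Lib.FibreFlat.Stalk
import Groth.Agent.Lib.Depth.Local
import Groth.Agent.Lib.Depth.CM

/-!
# Depth and dimension of the local rings of fibres (`CInt.fiberStalk`)
-/

universe u

open CategoryTheory CategoryTheory.Limits AlgebraicGeometry IsLocalRing

namespace GrothLib.DimCut

variable {X S : Scheme.{u}}

theorem dim_stalk_fiber_eq (f : X ⟶ S) (s : S) (z : f.fiber s) {x : X} (hz : f.fiberι s z = x) :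
    ringKrullDim ((f.fiber s).presheaf.stalk z) = ringKrullDim ↑(CInt.fiberStalk f x) := by
  have hs : f x = s := hz ▸ apply_fiberι f s z
  subst hs
  rw [eq_asFiber f x z hz]

open RingTheory.Sequence in
/-- Depth can only go up from the fibre to a flat total space. -/
theorem depth_stalk_ge (f : X ⟶ S) [Flat f] [IsLocallyNoetherian X] (x : X) (d : ℕ)
    (h : (d : ℕ∞) ≤ LocCoh.depth ↑(CInt.fiberStalk f x) ↑(CInt.fiberStalk f x)) :
    (d : ℕ∞) ≤ LocCoh.depth ↑(X.presheaf.stalk x) ↑(X.presheaf.stalk x) := by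
  let A := S.presheaf.stalk (f x)
  let B := X.presheaf.stalk x
  let F := CInt.fiberStalk f x
  letI : Algebra A B := (f.stalkMap x).hom.toAlgebra
  haveI : IsLocalHom (algebraMap A B) := inferInstanceAs (IsLocalHom (f.stalkMap x).hom)
  haveI : Module.Flat A B := Flat.stalkMap f x
  obtain ⟨hsurj, hker⟩ := GrothLib.FibreFlat.fiberι_stalkMap' f (f x) (f.asFiber x) x
    (f.fiberι_asFiber x)
  let φ : B →+* F :=
    ((X.presheaf.stalkCongr (.of_eq (f.fiberι_asFiber x).symm)).hom ≫
      (f.fiberι (f x)).stalkMap (f.asFiber x)).hom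
  haveI : IsNoetherianRing F := isNoetherianRing_stalk_fiber f (f x) (f.asFiber x)
  have hne : ∀ (R : Type u) [CommRing R] [IsLocalRing R],
      maximalIdeal R • (⊤ : Submodule R R) ≠ ⊤ := fun R _ _ => by
    rw [Ideal.smul_eq_mul, Ideal.mul_top]
    exact (maximalIdeal.isMaximal R).ne_top
  obtain ⟨rs, hlen, hmem, hreg⟩ := (GrothLib.Depth.le_idealDepth_iff_exists _ (hne F) d).1 h
  choose g hg using hsurj
  refine (GrothLib.Depth.le_idealDepth_iff_exists _ (hne B) d).2
    ⟨rs.map g, by simp [hlen], ?_, ?_⟩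
  · intro r hr
    obtain ⟨r', hr', rfl⟩ := List.mem_map.mp hr
    have := hmem r' hr'
    rw [mem_maximalIdeal, mem_nonunits_iff] at this ⊢
    exact fun hu => this (hg r' ▸ hu.map φ)
  · refine isWeaklyRegular_of_fibre (A := A) (rs.map g) B ?_
    let e : (B ⧸ ((maximalIdeal A).map (algebraMap A B) • ⊤ : Submodule B B)) ≃+ F :=
      (Submodule.quotEquivOfEq _ (RingHom.ker φ) (by
        rw [Ideal.smul_eq_mul, Ideal.mul_top]; exact hker.symm)).toAddEquiv.trans
        (RingHom.quotientKerEquivOfSurjective (f := φ) fun y => ⟨g y, hg y⟩).toAddEquiv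
    refine (e.isWeaklyRegular_congr (bs := rs) ?_).mpr hreg
    refine List.forall₂_map_left_iff.mpr (List.forall₂_same.mpr fun r _ y => ?_)
    obtain ⟨y, rfl⟩ := Submodule.Quotient.mk_surjective _ y
    rw [← Submodule.Quotient.mk_smul]
    change φ (g r • y) = r • φ y
    rw [smul_eq_mul, smul_eq_mul, map_mul]
    exact congrArg (· * φ y) (hg r)

/-- The relative dimension at `x` is at most the dimension of the local ring at `x`. -/
theorem dim_fiberStalk_le (f : X ⟶ S) (x : X) :
    ringKrullDim ↑(CInt.fiberStalk f x) ≤ ringKrullDim (X.presheaf.stalk x) :=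
  (ringKrullDim_le_of_surjective _
    ((f.fiberι (f x)).stalkMap_surjective (f.asFiber x))).trans
    (le_of_eq (congrArg (fun y : X => ringKrullDim (X.presheaf.stalk y)) (f.fiberι_asFiber x)))

/-- The depth of the stalk is at least the relative dimension for flat maps with CM fibres. -/
theorem dim_fiberStalk_le_depth (f : X ⟶ S) [Flat f] [IsLocallyNoetherian X] (x : X)
    (hCM : LocCoh.IsCohenMacaulayLocalRing ↑(CInt.fiberStalk f x)) :
    ringKrullDim ↑(CInt.fiberStalk f x) ≤
      ((LocCoh.depth ↑(X.presheaf.stalk x) ↑(X.presheaf.stalk x) : ℕ∞) : WithBot ℕ∞) := by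
  rw [← Module.supportDim_self_eq_ringKrullDim, hCM.supportDim_eq_depth, WithBot.coe_le_coe]
  exact ENat.forall_natCast_le_iff_le.mp fun d hd => depth_stalk_ge f x d hd

end GrothLib.DimCut

namespace GrothLib.DimCut

variable {X X' S S' : Scheme.{u}}

/-- The square comparing the fibres of `g ≫ f` and `f` is cartesian. -/
theorem isPullback_fiberMap (g : X' ⟶ X) (f : X ⟶ S) (s : S) :
    IsPullback ((g ≫ f).fiberι s) (CInt.fiberMap g f s) g (f.fiberι s) := by
  have e : CInt.fiberMap g f s ≫ pullback.snd f (S.fromSpecResidueField s) =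
      pullback.snd (g ≫ f) (S.fromSpecResidueField s) :=
    (pullback.lift_snd _ _ _).trans (Category.comp_id _)
  have h : IsPullback (pullback.fst (g ≫ f) (S.fromSpecResidueField s))
      (CInt.fiberMap g f s ≫ pullback.snd f (S.fromSpecResidueField s)) (g ≫ f)
      (S.fromSpecResidueField s) := e.symm ▸ IsPullback.of_hasPullback _ _
  exact IsPullback.of_bot h (pullback.lift_fst _ _ _).symm (IsPullback.of_hasPullback f _)

theorem fiberMap_fiberι (g : X' ⟶ X) (f : X ⟶ S) (s : S) :
    CInt.fiberMap g f s ≫ f.fiberι s = (g ≫ f).fiberι s ≫ g :=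
  (isPullback_fiberMap g f s).w.symm

end GrothLib.DimCut
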