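import Groth.Agent.Lib.AffDom.LocalDim
import Groth.Prelude.Def_RegImm
import Mathlib.RingTheory.Spectrum.Prime.Topology

/-!
Cutting by `c` equations lowers the dimension of a point by at most `c`.
-/

universe u

open CategoryTheory Limits AlgebraicGeometry TopologicalSpace

namespace GrothLib.DimCut

open GrothLib.AffDom

variable {K : Type u} [Field K] {X : Scheme.{u}} (f : X ⟶ Spec (CommRingCat.of K)) [LocallyOfFiniteType f]

include f in
/-- The basic estimate: `z` minimal in `closure η ∩ S`, with `S` cut out by `rs` on an affine open. -/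
theorem ptDim_le_add_length {U : X.Opens} (hU : IsAffineOpen U) (rs : List Γ(X, U)) (S : Set X)
    (hS : hU.fromSpec ⁻¹' S = PrimeSpectrum.zeroLocus (Ideal.ofList rs : Set Γ(X, U))) {η z : X}
    (hzU : z ∈ U) (hz : z ∈ S) (hη : η ⤳ z) (hmin : ∀ w ∈ S, η ⤳ w → w ⤳ z → w = z) :
    ptDim η ≤ ptDim z + (rs.length : WithBot ℕ∞) := by
  classical
  obtain ⟨p, rfl⟩ := hU.range_fromSpec.ge hzU
  obtain ⟨e, rfl⟩ := hU.range_fromSpec.ge (hη.mem_open U.2 hzU)
  rw [ptDim_fromSpec f hU, ptDim_fromSpec f hU]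
  obtain ⟨ψ, hψ, -⟩ := GrothLib.Dim.exists_finiteType_specMap f hU
  algebraize [ψ.hom]
  have : Algebra.FiniteType K Γ(X, U) := hψ
  have hep : e.asIdeal ≤ p.asIdeal :=
    (PrimeSpectrum.le_iff_specializes e p).2 (hU.fromSpec.isEmbedding.isInducing.specializes_iff.1 hη)
  let π := Ideal.Quotient.mk e.asIdeal
  let P := p.asIdeal.map π
  have hP : P.IsPrime := Ideal.isPrime_map_quotientMk_of_isPrime hep
  have : IsNoetherianRing Γ(X, U) := Algebra.FiniteType.isNoetherianRing K _
  let s : Finset (Γ(X, U) ⧸ e.asIdeal) := (rs.map π).toFinset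
  have hspan : (Ideal.ofList rs).map π = Ideal.span (s : Set (Γ(X, U) ⧸ e.asIdeal)) := by
    rw [Ideal.map_ofList]
    simp [s, Ideal.ofList]
  have hcm : P.comap π = p.asIdeal := by
    rw [Ideal.comap_map_of_surjective _ Ideal.Quotient.mk_surjective, ← RingHom.ker_eq_comap_bot,
      Ideal.mk_ker, sup_eq_left.2 hep]
  have hmin' : P ∈ (Ideal.span (s : Set (Γ(X, U) ⧸ e.asIdeal))).minimalPrimes := by
    refine ⟨⟨hP, ?_⟩, fun Q ⟨hQ, hQs⟩ hQP => ?_⟩
    · rw [← hspan]
      refine Ideal.map_mono ?_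
      have : p ∈ hU.fromSpec ⁻¹' S := hz
      rw [hS] at this
      exact this
    · let q : PrimeSpectrum Γ(X, U) := ⟨Q.comap π, Ideal.comap_isPrime π Q⟩
      have hq : hU.fromSpec q ∈ S := by
        show q ∈ hU.fromSpec ⁻¹' S
        rw [hS]
        rw [← hspan] at hQs
        exact Ideal.map_le_iff_le_comap.1 hQs
      have heq : e.asIdeal ≤ q.asIdeal := fun a ha => by
        show π a ∈ Q
        rw [Ideal.Quotient.eq_zero_iff_mem.2 ha]; exact zero_mem _
      have hqp : q.asIdeal ≤ p.asIdeal := by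
        show Q.comap π ≤ p.asIdeal
        rw [← hcm]; exact Ideal.comap_mono hQP
      have := hmin _ hq ((((PrimeSpectrum.le_iff_specializes e q).1 heq)).map hU.fromSpec.continuous)
        (((PrimeSpectrum.le_iff_specializes q p).1 hqp).map hU.fromSpec.continuous)
      have hqp' : q = p := hU.fromSpec.isEmbedding.injective this
      have : Q.comap π = p.asIdeal := congrArg PrimeSpectrum.asIdeal hqp'
      rw [show P = p.asIdeal.map π from rfl, ← this, Ideal.map_comap_of_surjective _ Ideal.Quotient.mk_surjective]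
  have hht := Ideal.height_le_card_of_mem_minimalPrimes_span_finset hmin'
  have hcard : s.card ≤ rs.length := (List.toFinset_card_le _).trans (by simp)
  rw [← height_add_ringKrullDim_quotient K (Γ(X, U) ⧸ e.asIdeal) P,
    ringKrullDim_eq_of_ringEquiv (DoubleQuot.quotQuotEquivQuotOfLE hep), add_comm]
  gcongr
  exact (WithBot.coe_le_coe.2 (hht.trans (by exact_mod_cast hcard : (s.card : ℕ∞) ≤ (rs.length : ℕ∞)))).trans le_rfl

/-- The image of an immersion in an affine open where it is closed is the zero locus of the kernel. -/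
theorem range_inter_eq_zeroLocus {Z : Scheme.{u}} (i : Z ⟶ X) {U : X.Opens} (hU : IsAffineOpen U)
    [IsClosedImmersion (i ∣_ U)] :
    hU.fromSpec ⁻¹' Set.range i = PrimeSpectrum.zeroLocus (RingHom.ker (i.app U).hom : Set Γ(X, U)) := by
  have : IsAffine U := hU
  have hW : IsAffineOpen (i ⁻¹ᵁ U) := isAffine_of_isAffineHom (i ∣_ U)
  have h1 : hU.fromSpec ⁻¹' Set.range i = Set.range (PrimeSpectrum.comap (i.app U).hom) := by
    have hsq : Spec.map (i.app U) ≫ hU.fromSpec = hW.fromSpec ≫ i := by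
      rw [← IsAffineOpen.SpecMap_appLE_fromSpec i hU hW le_rfl, Scheme.Hom.appLE]
      simp
    ext p
    constructor
    · rintro ⟨w, hw⟩
      have hwU : w ∈ i ⁻¹ᵁ U := by
        show i w ∈ U
        rw [hw]; exact hU.range_fromSpec.le ⟨p, rfl⟩
      obtain ⟨r, rfl⟩ := hW.range_fromSpec.ge hwU
      refine ⟨r, hU.fromSpec.isEmbedding.injective ?_⟩
      rw [← Scheme.Hom.comp_apply, ← hsq, Scheme.Hom.comp_apply] at hw
      exact hw
    · rintro ⟨r, rfl⟩
      refine ⟨hW.fromSpec r, ?_⟩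
      rw [← Scheme.Hom.comp_apply, ← hsq, Scheme.Hom.comp_apply]
      rfl
  have h2 : IsClosed (hU.fromSpec ⁻¹' Set.range i) := by
    have hc := (i ∣_ U).isClosedEmbedding.isClosed_range
    rw [U.ι.isEmbedding.isInducing.isClosed_iff] at hc
    obtain ⟨C, hC, hC'⟩ := hc
    have : hU.fromSpec ⁻¹' Set.range i = hU.fromSpec ⁻¹' C := by
      ext p
      have hp : hU.fromSpec p ∈ U := hU.range_fromSpec.le ⟨p, rfl⟩
      have := Set.ext_iff.1 hC' ⟨_, hp⟩
      show hU.fromSpec p ∈ Set.range i ↔ hU.fromSpec p ∈ C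
      rw [Set.mem_preimage] at this
      refine Iff.trans ?_ this.symm
      constructor
      · rintro ⟨w, hw⟩
        have hwU : w ∈ i ⁻¹ᵁ U := by
          show i w ∈ U
          rw [hw]; exact hp
        refine ⟨⟨w, hwU⟩, Subtype.ext ?_⟩
        rw [morphismRestrict_base]
        exact hw
      · rintro ⟨w, hw⟩
        refine ⟨w.1, ?_⟩
        have := congrArg Subtype.val hw
        rw [morphismRestrict_base] at this
        exact this
    rw [this]
    exact hC.preimage hU.fromSpec.continuous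
  rw [h1] at h2 ⊢
  exact h2.closure_eq.symm.trans (PrimeSpectrum.closure_range_comap _)

theorem eq_zeroLocus_of_regular {k : RegImm.Kind} {c : ℕ} {Z : Scheme.{u}} {i : Z ⟶ X}
    (h : RegImm.IsRegularImmersionOfCodim k c i) (z : Z) :
    ∃ (U : X.Opens) (hU : IsAffineOpen U) (rs : List Γ(X, U)), i z ∈ U ∧ rs.length = c ∧
      hU.fromSpec ⁻¹' Set.range i = PrimeSpectrum.zeroLocus (Ideal.ofList rs : Set Γ(X, U)) := by
  obtain ⟨⟨U, hU⟩, hzU, hci, rs, hlen, -, hker⟩ := h.2 z
  have := hci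
  exact ⟨U, hU, rs, hzU, hlen, by rw [range_inter_eq_zeroLocus i hU, hker]⟩

/-- Pull back equations along a morphism to an affine open containing `z`. -/
theorem exists_zeroLocus_preimage {Y : Scheme.{u}} (π : Y ⟶ X) {U : X.Opens} (hU : IsAffineOpen U)
    (rs : List Γ(X, U)) (S : Set X)
    (hS : hU.fromSpec ⁻¹' S = PrimeSpectrum.zeroLocus (Ideal.ofList rs : Set Γ(X, U))) (z : Y)
    (hz : π z ∈ U) :
    ∃ (W : Y.Opens) (hW : IsAffineOpen W) (ss : List Γ(Y, W)), z ∈ W ∧ ss.length = rs.length ∧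
      hW.fromSpec ⁻¹' (π ⁻¹' S) = PrimeSpectrum.zeroLocus (Ideal.ofList ss : Set Γ(Y, W)) := by
  obtain ⟨W, hW, hzW, hWU⟩ := exists_isAffineOpen_mem_and_subset (x := z) (U := π ⁻¹ᵁ U) hz
  refine ⟨W, hW, rs.map (π.appLE U W hWU).hom, hzW, by simp, ?_⟩
  rw [← Ideal.map_ofList]
  ext p
  have h1 : π (hW.fromSpec p) = hU.fromSpec (PrimeSpectrum.comap (π.appLE U W hWU).hom p) := by
    rw [← Scheme.Hom.comp_apply, ← IsAffineOpen.SpecMap_appLE_fromSpec π hU hW hWU, Scheme.Hom.comp_apply]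
    rfl
  show π (hW.fromSpec p) ∈ S ↔ (Ideal.ofList rs).map (π.appLE U W hWU).hom ≤ p.asIdeal
  rw [h1, Ideal.map_le_iff_le_comap]
  exact Set.ext_iff.1 hS (PrimeSpectrum.comap (π.appLE U W hWU).hom p)

/-- A point minimal in `closure η ∩ π⁻¹(range i)` for a regular immersion `i` of codimension `c`. -/
theorem ptDim_le_add_codim {Y : Scheme.{u}} (g : Y ⟶ Spec (CommRingCat.of K)) [LocallyOfFiniteType g]
    (π : Y ⟶ X) {k : RegImm.Kind} {c : ℕ} {Z : Scheme.{u}} {i : Z ⟶ X}
    (h : RegImm.IsRegularImmersionOfCodim k c i) {η z : Y} (hz : π z ∈ Set.range i) (hη : η ⤳ z)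
    (hmin : ∀ w, π w ∈ Set.range i → η ⤳ w → w ⤳ z → w = z) :
    ptDim η ≤ ptDim z + (c : WithBot ℕ∞) := by
  obtain ⟨z', hz'⟩ := hz
  obtain ⟨U, hU, rs, hzU, hlen, hS⟩ := eq_zeroLocus_of_regular h z'
  rw [hz'] at hzU
  obtain ⟨W, hW, ss, hzW, hss, hS'⟩ := exists_zeroLocus_preimage π hU rs _ hS z hzU
  have := ptDim_le_add_length g hW ss _ hS' hzW (show π z ∈ Set.range i from ⟨z', hz'⟩) hη hmin
  rwa [hss, hlen] at this

omit f in
/-- The dimension of an irreducible closed set is that of its generic point. -/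
theorem dim_eq_ptDim {Y : Scheme.{u}} {P : Set Y} (hP : IsClosed P) (hP' : IsIrreducible P) :
    ∃ η : Y, IsGenericPoint η P ∧ topologicalKrullDim P = ptDim η := by
  refine ⟨hP'.genericPoint, hP'.isGenericPoint_genericPoint hP, ?_⟩
  rw [ptDim, (hP'.isGenericPoint_genericPoint hP).def]

omit f in
theorem ptDim_of_isEmbedding {Y : Scheme.{u}} {T : Type*} [TopologicalSpace T] {φ : T → Y}
    (hφ : Topology.IsEmbedding φ) (t : T) (h : ∀ y, φ t ⤳ y → y ∈ Set.range φ) :
    topologicalKrullDim (closure {t} : Set T) = ptDim (φ t) := by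
  refine GrothLib.Dim.IsEmbedding.topologicalKrullDim_eq (f := fun w : (closure {t} : Set T) => φ w.1)
    (hφ.comp Topology.IsEmbedding.subtypeVal) ?_
  ext y
  constructor
  · rintro ⟨w, rfl⟩
    exact map_mem_closure hφ.continuous w.2 (fun a (ha : a = t) => by rw [ha]; rfl)
  · intro hy
    obtain ⟨w, rfl⟩ := h y (specializes_iff_mem_closure.2 hy)
    exact ⟨⟨w, specializes_iff_mem_closure.1
      (hφ.isInducing.specializes_iff.1 (specializes_iff_mem_closure.2 hy))⟩, rfl⟩

end GrothLib.DimCut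

namespace GrothLib.DimCut

open GrothLib.AffDom

variable {K : Type u} [Field K]

/-- An immersion preserves the dimension of points. -/
theorem ptDim_immersion {X Y : Scheme.{u}} (g : Y ⟶ Spec (CommRingCat.of K)) [LocallyOfFiniteType g]
    (j : X ⟶ Y) [IsImmersion j] (t : X) : ptDim t = ptDim (j t) := by
  obtain ⟨a, ha, ha'⟩ := exists_dim_closure (j ≫ g) t
  obtain ⟨b, hb, hb'⟩ := exists_dim_closure g (j t)
  have h := ptTrdeg_preimmersion j g t
  rw [ha', hb'] at h
  unfold ptDim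
  rw [ha, hb, ← Nat.cast_injective (R := Cardinal) h]

/-- The generic point of a component of `P ∩ range j`. -/
theorem exists_generic_component {X Y : Scheme.{u}} (g : Y ⟶ Spec (CommRingCat.of K)) [LocallyOfFiniteType g]
    (j : X ⟶ Y) [IsImmersion j] {P : Set Y} (hP : IsClosed P) {Q : Set ↥(P ∩ Set.range j)}
    (hQ : Q ∈ irreducibleComponents ↥(P ∩ Set.range j)) :
    ∃ t : X, j t ∈ P ∧ (∀ w : X, j w ∈ P → w ⤳ t → w = t) ∧ topologicalKrullDim Q = ptDim (j t) := by
  have hemb : Topology.IsEmbedding (fun w : (j ⁻¹' P : Set X) => j w.1) :=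
    j.isEmbedding.comp Topology.IsEmbedding.subtypeVal
  have hrange : Set.range (fun w : (j ⁻¹' P : Set X) => j w.1) = P ∩ Set.range j := by
    rw [Set.range_comp' j, Subtype.range_coe, Set.image_preimage_eq_inter_range]
  let h : (j ⁻¹' P : Set X) ≃ₜ ↥(P ∩ Set.range j) := hemb.toHomeomorph.trans (Homeomorph.setCongr hrange)
  let Q' : Set (j ⁻¹' P : Set X) := h ⁻¹' Q
  have hQ' : Q' ∈ irreducibleComponents (j ⁻¹' P : Set X) :=
    preimage_mem_irreducibleComponents hQ h.isOpenEmbedding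
      (by rw [h.surjective.range_eq, Set.inter_univ]; exact hQ.1.nonempty)
  have hc : IsClosed (j ⁻¹' P) := hP.preimage j.continuous
  haveI : QuasiSober (j ⁻¹' P : Set X) := hc.isClosedEmbedding_subtypeVal.quasiSober
  obtain ⟨t, ht⟩ := QuasiSober.sober hQ'.1 (isClosed_of_mem_irreducibleComponents _ hQ')
  refine ⟨t.1, t.2, fun w hw hwt => ?_, ?_⟩
  · have h1 : (⟨w, hw⟩ : (j ⁻¹' P : Set X)) ⤳ t := (subtype_specializes_iff _ _).2 hwt
    have h2 : Q' ⊆ closure {(⟨w, hw⟩ : (j ⁻¹' P : Set X))} := by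
      rw [← ht.def]; exact h1.closure_subset
    have h3 := hQ'.2 isIrreducible_singleton.closure h2
    exact congrArg Subtype.val (h1.antisymm (ht.specializes (h3 (subset_closure rfl)))).eq
  · rw [← ptDim_immersion g j t.1, ← ptDim_of_isEmbedding Topology.IsEmbedding.subtypeVal t
      (fun y hy => ⟨⟨y, hc.closure_subset_iff.2 (Set.singleton_subset_iff.2 t.2) (specializes_iff_mem_closure.1 hy)⟩, rfl⟩),
      ht.def]
    exact (GrothLib.Dim.IsEmbedding.topologicalKrullDim_eq (f := fun w : Q' => h w.1)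
      (h.isEmbedding.comp Topology.IsEmbedding.subtypeVal)
      (by rw [Set.range_comp' h, Subtype.range_coe, Set.image_preimage_eq _ h.surjective])).symm

end GrothLib.DimCut
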