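import Groth.Agent.Lib.DimCut.Basic
import Groth.Agent.Lib.AffDom.FibreDim
import Groth.Agent.Lib.CycFlat.Fibre
import Mathlib.AlgebraicGeometry.Noetherian

/-!
# The loci of fibre dimension at least `j`, and the dimension of the source
-/

universe u

open AlgebraicGeometry CategoryTheory TopologicalSpace

noncomputable section

namespace GrothLib.DimCut

open GrothLib.AffDom

/-- The points whose fibre has dimension at least `j`. -/
abbrev fibreDimGE {C X : Scheme.{u}} (π : C ⟶ X) (j : ℕ) : Set X :=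
  {x : X | (j : WithBot ℕ∞) ≤ topologicalKrullDim (π.fiber x)}

theorem dim_closed_le {X : Scheme.{u}} {T : Set X} (hT : IsClosed T) (r : ℕ) {b : WithBot ℕ∞}
    (h : ∀ x ∈ T, ptDim x + (r : WithBot ℕ∞) ≤ b) : topologicalKrullDim T + (r : WithBot ℕ∞) ≤ b := by
  haveI : QuasiSober T := hT.isClosedEmbedding_subtypeVal.quasiSober
  rw [GrothLib.AffDom.topologicalKrullDim_eq_iSup T, add_comm]
  refine add_iSup_le r fun x => ?_
  rw [ptDim_of_isEmbedding Topology.IsEmbedding.subtypeVal x (fun y hy => ⟨⟨y, hy.mem_closed hT x.2⟩, rfl⟩),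
    add_comm]
  exact h x.1 x.2

theorem ptDim_le_dim_closed {X : Scheme.{u}} {T : Set X} (hT : IsClosed T) {x : X} (hx : x ∈ T) :
    ptDim x ≤ topologicalKrullDim T :=
  (Topology.IsEmbedding.inclusion (closure_minimal (Set.singleton_subset_iff.2 hx) hT)).isInducing.topologicalKrullDim_le

variable {K : Type u} [Field K] {C X : Scheme.{u}} (q : X ⟶ Spec (CommRingCat.of K)) [LocallyOfFiniteType q]
  (π : C ⟶ X) [LocallyOfFiniteType π]

omit [LocallyOfFiniteType π] in
theorem exists_point_of_mem {x : X} {j : ℕ} (hx : x ∈ fibreDimGE π j) :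
    ∃ c : C, π c = x ∧ (j : WithBot ℕ∞) ≤ ptDim (π.asFiber c) := by
  have hx' : (j : WithBot ℕ∞) ≤ ⨆ z : π.fiber x, ptDim z := by
    rw [← topologicalKrullDim_eq_iSup_ptDim]; exact hx
  have : Nonempty (π.fiber x) := by
    by_contra h
    rw [not_nonempty_iff] at h
    rw [iSup_of_empty] at hx'
    exact WithBot.natCast_ne_bot j (le_bot_iff.1 hx')
  obtain ⟨z, hz⟩ := exists_le_of_le_iSup (fun z => ptDim_nonneg z) j hx'
  refine ⟨π.fiberι x z, GrothLib.CycFlat.apply_fiberι π x z, ?_⟩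
  suffices H : ∀ (c : C) (y : X) (w : π.fiber y), π.fiberι y w = c → π c = y → ptDim (π.asFiber c) = ptDim w by
    rwa [H _ x z rfl (GrothLib.CycFlat.apply_fiberι π x z)]
  intro c y w hw hy
  subst hy
  rw [show π.asFiber c = w from (π.fiberι (π c)).isEmbedding.injective (by rw [Scheme.Hom.fiberι_asFiber, hw])]

include q in
theorem ptDim_add_le_of_mem {x : X} {j : ℕ} {b : WithBot ℕ∞} (hx : x ∈ fibreDimGE π j)
    (hb : ∀ c : C, π c = x → ptDim c ≤ b) : ptDim x + (j : WithBot ℕ∞) ≤ b := by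
  obtain ⟨c, hc, hj⟩ := exists_point_of_mem π hx
  refine le_trans ?_ (hb c hc)
  rw [ptDim_eq_add π q c]
  subst hc
  gcongr

theorem exists_nat_ptDim_asFiber (c : C) : ∃ d : ℕ, ptDim (π.asFiber c) = d := by
  let g : π.fiber (π c) ⟶ Spec (CommRingCat.of (X.residueField (π c))) := π.fiberToSpecResidueField (π c)
  have : LocallyOfFiniteType g := MorphismProperty.pullback_snd π (X.fromSpecResidueField (π c)) ‹_›
  exact exists_nat_ptDim g (π.asFiber c)

include q in
theorem exists_ptDim_eq (c : C) : ∃ d : ℕ, π c ∈ fibreDimGE π d ∧ ptDim c = ptDim (π c) + (d : WithBot ℕ∞) := by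
  obtain ⟨d, hd⟩ := exists_nat_ptDim_asFiber π c
  refine ⟨d, ?_, by rw [ptDim_eq_add π q c, hd]⟩
  show (d : WithBot ℕ∞) ≤ _
  rw [← hd]
  exact ptDim_le _

include q in
/-- The closure of the locus of fibre dimension at least `j` has dimension at most `dim C - j`. -/
theorem ptDim_add_le_of_mem_closure [CompactSpace C] {b : WithBot ℕ∞} (hb : ∀ c : C, ptDim c ≤ b) {j : ℕ} {x : X}
    (hx : x ∈ closure (fibreDimGE π j)) : ptDim x + (j : WithBot ℕ∞) ≤ b := by
  haveI : IsLocallyNoetherian C := LocallyOfFiniteType.isLocallyNoetherian (π ≫ q)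
  haveI : IsNoetherian C := {}
  let S : Set C := {c | (j : WithBot ℕ∞) ≤ ptDim (π.asFiber c)}
  suffices H : ∀ T : Closeds C, ∀ ξ ∈ closure (π '' (S ∩ (T : Set C))), ptDim ξ + (j : WithBot ℕ∞) ≤ b by
    refine H ⊤ x (closure_mono ?_ hx)
    intro y hy
    obtain ⟨c, hc, hj⟩ := exists_point_of_mem π hy
    exact ⟨c, ⟨hj, trivial⟩, hc⟩
  intro T
  induction T using WellFoundedLT.induction with
  | _ T ih =>
    intro ξ hξ
    by_cases hirr : IsIrreducible (T : Set C)
    · obtain ⟨η, hη, -⟩ := dim_eq_ptDim T.isClosed hirr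
      obtain ⟨V, U, e, -, hηU, -, -, hdim, hup, -⟩ := exists_generic_opens q π η ⊤ trivial
      let T' : Closeds C := ⟨(T : Set C) \ U, T.isClosed.sdiff U.2⟩
      have hlt : T' < T := lt_of_le_of_ne (fun c hc => hc.1) fun h => by
        have : η ∈ T' := h ▸ hη.mem
        exact this.2 hηU
      have hsub : π '' (S ∩ (T : Set C)) ⊆ π '' (S ∩ (T' : Set C)) ∪ π '' (S ∩ ((T : Set C) ∩ U)) := by
        rintro _ ⟨c, ⟨hS, hT⟩, rfl⟩
        by_cases hU : c ∈ U
        · exact Or.inr ⟨c, ⟨hS, hT, hU⟩, rfl⟩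
        · exact Or.inl ⟨c, ⟨hS, hT, hU⟩, rfl⟩
      rcases (closure_union (s := π '' (S ∩ (T' : Set C)))).subset (closure_mono hsub hξ) with h | h
      · exact ih T' hlt ξ h
      · obtain ⟨_, ⟨c, ⟨hS, hT, hU⟩, rfl⟩⟩ : (π '' (S ∩ ((T : Set C) ∩ U))).Nonempty :=
          closure_nonempty_iff.1 ⟨ξ, h⟩
        have hje : (j : ℕ) ≤ e := by
          obtain ⟨a, ha⟩ := exists_nat_ptDim q (π c)
          obtain ⟨f, hf⟩ := exists_nat_ptDim (π ≫ q) c
          obtain ⟨d, hd⟩ := exists_nat_ptDim_asFiber π c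
          have h1 := hup c hU (hη.specializes hT)
          rw [ptDim_eq_add π q c, ha, hd] at h1
          have h1' : a + d ≤ a + e := by exact_mod_cast h1
          have h2 : (j : WithBot ℕ∞) ≤ (d : WithBot ℕ∞) := hd ▸ hS
          have h2' : j ≤ d := by exact_mod_cast h2
          omega
        have hsp : π η ⤳ ξ := by
          refine specializes_iff_mem_closure.2 (closure_minimal ?_ isClosed_closure h)
          rintro _ ⟨c', ⟨-, hT', -⟩, rfl⟩
          exact specializes_iff_mem_closure.1 ((hη.specializes hT').map π.continuous)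
        calc ptDim ξ + (j : WithBot ℕ∞) ≤ ptDim (π η) + (e : WithBot ℕ∞) :=
              add_le_add (ptDim_mono hsp) (by exact_mod_cast hje)
          _ = ptDim η := hdim.symm
          _ ≤ b := hb η
    · by_cases hne : (T : Set C).Nonempty
      · obtain ⟨A, B, hA, hB, hTAB, hTA, hTB⟩ : ∃ A B : Set C, IsClosed A ∧ IsClosed B ∧ (T : Set C) ⊆ A ∪ B ∧
            ¬(T : Set C) ⊆ A ∧ ¬(T : Set C) ⊆ B := by
          have : ¬ IsPreirreducible (T : Set C) := fun h => hirr ⟨hne, h⟩
          rw [isPreirreducible_iff_isClosed_union_isClosed] at this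
          push Not at this
          exact this
        let TA : Closeds C := ⟨(T : Set C) ∩ A, T.isClosed.inter hA⟩
        let TB : Closeds C := ⟨(T : Set C) ∩ B, T.isClosed.inter hB⟩
        have hsub : π '' (S ∩ (T : Set C)) ⊆ π '' (S ∩ (TA : Set C)) ∪ π '' (S ∩ (TB : Set C)) := by
          rintro _ ⟨c, ⟨hS, hT⟩, rfl⟩
          rcases hTAB hT with h | h
          · exact Or.inl ⟨c, ⟨hS, hT, h⟩, rfl⟩
          · exact Or.inr ⟨c, ⟨hS, hT, h⟩, rfl⟩
        rcases (closure_union (s := π '' (S ∩ (TA : Set C)))).subset (closure_mono hsub hξ) with h | h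
        · exact ih TA (lt_of_le_of_ne (fun c hc => hc.1) fun he => hTA fun c hc => ((he ▸ hc : c ∈ TA)).2) ξ h
        · exact ih TB (lt_of_le_of_ne (fun c hc => hc.1) fun he => hTB fun c hc => ((he ▸ hc : c ∈ TB)).2) ξ h
      · rw [Set.not_nonempty_iff_eq_empty.1 hne, Set.inter_empty, Set.image_empty, closure_empty] at hξ
        exact absurd hξ (Set.notMem_empty ξ)

end GrothLib.DimCut
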